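import Cfsg.Agent.H713.Spor.JTwo_mg
import Cfsg.Agent.H730.PairRow
import Cfsg.Agent.H603.SporElim
import Cfsg.Agent.Prune
set_option linter.all false
prune_inst 0x7f00000000000000000000000000000000000000000000000000000000000000000000000000000000000000000000000000000000000000000000000000000000000000000000000000000000000000003fffffffffffffffffffffffffffbeffbdffffffff
open scoped Cfsg.Agent.FastGrp

/-! # S4938: the pairs of primes for `J2` and `J3` (helper904) -/

set_option autoImplicit false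

namespace Cfsg.Agent.H904.PR

open Cfsg Cfsg.Agent.H713 Cfsg.Agent.H713.Spor Cfsg.Agent.H730.Pair Subgroup
open Cfsg.Agent.H713.Spor.JJ Cfsg.Agent.J2Type.Model Cfsg.Agent.H710.VanCount

universe u v

/-- one element with a small centralizer covers all pairs -/
theorem pairRow_of_single {G : Type v} [Group G] [Finite G] {x : G} (hx : VZ G x)
    (h : ∀ p : ℕ, p.Prime → p ∣ Nat.card G → p ∣ (centralizer ({x} : Set G)).index) : PairRow G :=
  fun p q hp hq _ hpG hqG => ⟨x, hx, h p hp hpG, h q hq hqG⟩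

/-- centralizers of order dividing `2 ^ k` -/
theorem pairRow_of_two {G : Type v} [Group G] [Finite G] {x : G} (hx : VZ G x) {k : ℕ}
    (h1 : Nat.card (centralizer ({x} : Set G)) ∣ 2 ^ k) (h2 : 2 ^ (k + 1) ∣ Nat.card G) : PairRow G := by
  refine pairRow_of_single hx fun p hp hpG => ?_
  by_cases hp2 : p = 2
  · subst hp2
    refine dvd_index_of_not_dvd hp h2 fun h => ?_
    have h3 := (Nat.pow_dvd_pow_iff_le_right (by norm_num : 1 < 2)).1 (h.trans h1)
    omega
  · refine dvd_index_of_not_dvd (k := 1) hp (by rwa [pow_one]) fun h => ?_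
    rw [pow_one] at h
    exact hp2 ((Nat.prime_dvd_prime_iff_eq hp Nat.prime_two).1 (hp.dvd_of_dvd_pow (h.trans h1)))

section

variable {G : Type v} [Group G] [Finite G] {t : G}
variable {Q : Subgroup (centralizer ({t} : Set G))} {v : Fin 5 → centralizer ({t} : Set G)}
  {ρ : centralizer ({t} : Set G) →* SP} {z : centralizer ({t} : Set G)}

theorem pairRow_of_orders (hz : (z : G) = t) (M : IsModel Q z v ρ)
    (hα : ∀ α : MulAut G, IsConj t (α t)) (s t' : Finset ℕ) (hs : ∀ n ∈ s, ∃ g : G, orderOf g = n)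
    (ht' : ∀ n ∈ t', ∃ g h : G, orderOf g = n ∧ orderOf h = n ∧ ¬ IsConj g h)
    (hk : 12 < s.card + t'.card) (h2 : 2 ^ 4 ∣ Nat.card G) : PairRow G := by
  have hk' : 12 < Nat.card (ConjClasses G) := lt_of_lt_of_le hk (le_card_conjClasses_two s t' hs ht')
  obtain ⟨x, hx, hx1⟩ := exists_eight M
  have hox : orderOf x = 8 := by
    refine Cfsg.Agent.H419.Spor.JModel.orderOf_of_pow M (n := 4) (by norm_num) hx fun p hp h2 hd => ?_
    exact absurd ((Nat.prime_dvd_prime_iff_eq hp Nat.prime_two).1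
      (hp.dvd_of_dvd_pow (show p ∣ 2 ^ 2 from hd))) h2
  have hox' : orderOf (x : G) = 8 := by rw [Subgroup.orderOf_coe, hox]
  have hle := cent_le hz hx fun g hg => cent_eight M hx hx1 hg
  have vx : VZ G (x : G) := by
    refine vz_of_card _ (lt_of_le_of_lt (Subgroup.card_le_of_le hle) ?_) fun α => ?_
    · rw [Nat.card_zpowers, hox']
      omega
    · exact exists_conj_aut hz hα hx (fun _ => True) (fun _ _ _ => trivial) (fun _ => trivial)
        (fun y hy _ => conj_eight M hx hx1 hy) α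
  refine pairRow_of_two vx (k := 3) ?_ h2
  have h3 := Subgroup.card_dvd_of_le hle
  rwa [Nat.card_zpowers, hox'] at h3

end

end Cfsg.Agent.H904.PR

namespace Cfsg.Agent.H904.PR.JTwo

open Cfsg Cfsg.Agent.H713 Cfsg.Agent.H713.Spor Cfsg.Agent.H730.Pair Subgroup

theorem pairRow {K : Type*} [Group K] (h : Spor.IsoJ2 K) : PairRow K := by
  have hcard0 := Cfsg.Agent.NotCT.Orders.j2 h
  have : Finite K := Nat.finite_of_card_ne_zero (by rw [hcard0]; norm_num)
  obtain ⟨t, u, Q, v, ρ, D⟩ := Cfsg.Agent.KFacts.J2.Facts.exists_dat_of h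
  have hcard := D.card
  refine pairRow_of_orders rfl D.M (fun α => D.isConj_aut α) {1, 2, 3, 4, 5, 6, 7, 8, 10, 12}
    {2, 5, 10} ?_ ?_ (by decide) (by rw [hcard]; norm_num)
  · intro n hn
    by_cases h9 : n ∈ ({1, 2, 3, 4, 5, 6, 8, 10, 12} : Finset ℕ)
    · exact Cfsg.Agent.H419.Spor.JModel.exists_orders' D.M n h9
    · have h3 : n = 7 := by
        simp only [Finset.mem_insert, Finset.mem_singleton] at hn h9
        omega
      subst h3
      have : Fact (Nat.Prime 7) := ⟨by norm_num⟩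
      exact exists_prime_orderOf_dvd_card' 7 (by rw [hcard]; norm_num)
  · intro n hn
    rw [Finset.mem_insert] at hn
    rcases hn with rfl | hn
    · exact ⟨t, u, D.F.hz, D.F.hu, D.F.nconj⟩
    · exact JJ.two_versions rfl D.M n hn

end Cfsg.Agent.H904.PR.JTwo

namespace Cfsg.Agent.H904.PR.JThree

open Cfsg Cfsg.Agent.H713 Cfsg.Agent.H713.Spor Cfsg.Agent.H730.Pair Subgroup

theorem pairRow {K : Type*} [Group K] (h : Spor.IsoJ3 K) : PairRow K := by
  have hcard0 := Cfsg.Agent.NotCT.Orders.j3 h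
  have : Finite K := Nat.finite_of_card_ne_zero (by rw [hcard0]; norm_num)
  obtain ⟨hcard, hM, hone, -⟩ := Cfsg.Agent.CpAutJThree.base h
  have : Fact (Nat.Prime 2) := ⟨Nat.prime_two⟩
  obtain ⟨t, ht⟩ := exists_prime_orderOf_dvd_card' (G := K) 2 (by rw [hcard]; norm_num)
  obtain ⟨-, hC, Q, v, ρ, M⟩ := hM t ht
  refine pairRow_of_orders rfl M (fun α => hone _ _ ht ?_) {1, 2, 3, 4, 5, 6, 8, 10, 12, 17, 19}
    {5, 10} ?_ (JJ.two_versions rfl M) (by decide) (by rw [hcard]; norm_num)
  · rw [MulEquiv.orderOf_eq, ht]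
  · intro n hn
    by_cases h9 : n ∈ ({1, 2, 3, 4, 5, 6, 8, 10, 12} : Finset ℕ)
    · exact Cfsg.Agent.H419.Spor.JModel.exists_orders' M n h9
    · have h3 : n = 17 ∨ n = 19 := by
        simp only [Finset.mem_insert, Finset.mem_singleton] at hn h9
        omega
      have hp : n.Prime := by rcases h3 with rfl | rfl <;> norm_num
      have : Fact n.Prime := ⟨hp⟩
      exact exists_prime_orderOf_dvd_card' n (by
        rw [hcard]
        rcases h3 with rfl | rfl <;> norm_num)

end Cfsg.Agent.H904.PR.JThree
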